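import Mathlib.CategoryTheory.Linear.LinearFunctor
import Mathlib.CategoryTheory.Limits.Preserves.Shapes.Biproducts
import Mathlib.CategoryTheory.Preadditive.AdditiveFunctor
import Mathlib.Algebra.Category.ModuleCat.Abelian
import Mathlib.RingTheory.Noetherian.Basic
import Mathlib.RingTheory.Ideal.Operations

/-!
Towers of chain complexes and the Koszul towers of powers of finitely many elements.
-/

set_option autoImplicit false

universe w v u

open CategoryTheory CategoryTheory.Limits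

noncomputable section

namespace Groth.Agent.KosPro27

variable (C : Type u) [Category.{v} C] [Preadditive C]

/-- A tower of chain complexes. -/
structure Cx where
  /-- degree `t`, position `n` -/
  X : ℕ → ℕ → C
  /-- transition maps -/
  φ : ∀ (t : ℕ) {n m : ℕ}, n ≤ m → (X t m ⟶ X t n)
  φ_refl : ∀ t n, φ t (le_refl n) = 𝟙 _
  φ_comp : ∀ t {n m k : ℕ} (h : n ≤ m) (h' : m ≤ k), φ t h' ≫ φ t h = φ t (h.trans h')
  /-- differential -/
  d : ∀ t n, X (t + 1) n ⟶ X t n
  d_comm : ∀ t {n m : ℕ} (h : n ≤ m), d t m ≫ φ t h = φ (t + 1) h ≫ d t n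
  dd : ∀ t n, d (t + 1) n ≫ d t n = 0

variable {C} (A : Type w) [CommRing A] [Linear A C] [HasBinaryBiproducts C]

/-- The cone of multiplication by the powers of `g`. -/
def coneX (K : Cx C) : ℕ → ℕ → C
  | 0, n => K.X 0 n
  | t + 1, n => K.X (t + 1) n ⊞ K.X t n

variable {A}

/-- The transition maps of the cone. -/
def coneφ (K : Cx C) (g : A) : ∀ (t : ℕ) {n m : ℕ}, n ≤ m → (coneX K t m ⟶ coneX K t n)
  | 0, _, _, h => K.φ 0 h
  | t + 1, n, m, h => biprod.map (K.φ (t + 1) h) (g ^ (m - n) • K.φ t h)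

/-- The differential of the cone. -/
def coneD (K : Cx C) (g : A) : ∀ t n, coneX K (t + 1) n ⟶ coneX K t n
  | 0, n => biprod.desc (K.d 0 n) (g ^ (n + 1) • 𝟙 _)
  | t + 1, n => biprod.desc (K.d (t + 1) n ≫ biprod.inl) (g ^ (n + 1) • biprod.inl - K.d t n ≫ biprod.inr)

/-- The cone tower. -/
def cone (K : Cx C) (g : A) : Cx C where
  X := coneX K
  φ := coneφ K g
  φ_refl
    | 0, n => K.φ_refl 0 n
    | t + 1, n => by
      dsimp only [coneφ, coneX]
      rw [Nat.sub_self, pow_zero, one_smul, K.φ_refl, K.φ_refl]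
      ext <;> simp
  φ_comp := by
    intro t n m k h h'
    cases t with
    | zero => exact K.φ_comp 0 h h'
    | succ t =>
      dsimp only [coneφ, coneX]
      have e : g ^ (m - n) * g ^ (k - m) = g ^ (k - n) := by
        rw [← pow_add]; congr 1; omega
      ext <;> simp [K.φ_comp, smul_smul, e]
  d := coneD K g
  d_comm := by
    intro t n m h
    cases t with
    | zero =>
      dsimp only [coneφ, coneX, coneD]
      have e : g ^ (m - n) * g ^ (n + 1) = g ^ (m + 1) := by rw [← pow_add]; congr 1; omega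
      refine biprod.hom_ext' _ _ ?_ ?_
      · simp [K.d_comm]
      · simp [smul_smul, mul_comm, e]
    | succ t =>
      dsimp only [coneφ, coneX, coneD]
      have e : g ^ (m - n) * g ^ (n + 1) = g ^ (m + 1) := by rw [← pow_add]; congr 1; omega
      refine biprod.hom_ext' _ _ ?_ ?_
      · simp only [Category.assoc, biprod.inl_desc_assoc, biprod.inl_map, biprod.inl_map_assoc, biprod.inl_desc]
        rw [← Category.assoc, K.d_comm, Category.assoc]
      · simp [smul_smul, e, ← reassoc_of% (K.d_comm t h), smul_sub]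
        rw [mul_comm, e]
  dd
    | 0, n => by
      dsimp only [coneX, coneD]
      refine biprod.hom_ext' _ _ ?_ ?_
      · simp [K.dd]
        exact comp_zero.symm
      · simp
        exact comp_zero.symm
    | t + 1, n => by
      dsimp only [coneX, coneD]
      refine biprod.hom_ext' _ _ ?_ ?_
      · simp [reassoc_of% (K.dd (t + 1) n)]
        exact comp_zero.symm
      · simp [reassoc_of% (K.dd t n)]
        exact comp_zero.symm

/-- The projection to the first summand. -/
def q (K : Cx C) (g : A) : ∀ t n, (cone K g).X t n ⟶ K.X t n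
  | 0, _ => 𝟙 _
  | _ + 1, _ => biprod.fst

/-- The projection to the second summand. -/
def p₂ (K : Cx C) (g : A) (t n : ℕ) : (cone K g).X (t + 1) n ⟶ K.X t n := biprod.snd

/-- The inclusion of the first summand. -/
def i₁ (K : Cx C) (g : A) : ∀ t n, K.X t n ⟶ (cone K g).X t n
  | 0, _ => 𝟙 _
  | _ + 1, _ => biprod.inl

/-- The inclusion of the second summand. -/
def i₂ (K : Cx C) (g : A) (t n : ℕ) : K.X t n ⟶ (cone K g).X (t + 1) n := biprod.inr

variable (K : Cx C) (g : A)

theorem i₁_q : ∀ t n, i₁ K g t n ≫ q K g t n = 𝟙 _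
  | 0, _ => Category.comp_id _
  | _ + 1, _ => biprod.inl_fst

theorem i₁_p₂ (t n : ℕ) : i₁ K g (t + 1) n ≫ p₂ K g t n = 0 := biprod.inl_snd

theorem i₂_q (t n : ℕ) : i₂ K g t n ≫ q K g (t + 1) n = 0 := biprod.inr_fst

theorem i₂_p₂ (t n : ℕ) : i₂ K g t n ≫ p₂ K g t n = 𝟙 _ := biprod.inr_snd

theorem q_i₁_zero (n : ℕ) : q K g 0 n ≫ i₁ K g 0 n = 𝟙 _ := Category.comp_id _

theorem total (t n : ℕ) :
    q K g (t + 1) n ≫ i₁ K g (t + 1) n + p₂ K g t n ≫ i₂ K g t n = 𝟙 _ := biprod.total

theorem φ_q : ∀ t {n m : ℕ} (h : n ≤ m), (cone K g).φ t h ≫ q K g t n = q K g t m ≫ K.φ t h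
  | 0, _, _, _ => (Category.comp_id _).trans (Category.id_comp _).symm
  | _ + 1, _, _, _ => biprod.map_fst _ _

theorem φ_p₂ (t : ℕ) {n m : ℕ} (h : n ≤ m) :
    (cone K g).φ (t + 1) h ≫ p₂ K g t n = g ^ (m - n) • (p₂ K g t m ≫ K.φ t h) :=
  (biprod.map_snd _ _).trans (Linear.comp_smul _ _ _ _ _ _)

omit K g in
theorem aux_desc {P Q : C} (f : P ⟶ Q) (a : A) :
    biprod.desc f (a • 𝟙 Q) = biprod.fst ≫ f + a • biprod.snd := by
  refine biprod.hom_ext' _ _ ?_ ?_ <;> simp [Preadditive.comp_add]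

omit K g in
theorem aux_fst {P Q R : C} (f : P ⟶ Q) (f' : Q ⟶ R) (a : A) :
    biprod.desc (f ≫ biprod.inl) (a • biprod.inl - f' ≫ biprod.inr) ≫ (biprod.fst : Q ⊞ R ⟶ Q) =
      biprod.fst ≫ f + a • biprod.snd := by
  refine biprod.hom_ext' _ _ ?_ ?_ <;> simp [Preadditive.comp_add, Preadditive.sub_comp]

omit K g in
theorem aux_snd {P Q R : C} (f : P ⟶ Q) (f' : Q ⟶ R) (a : A) :
    biprod.desc (f ≫ biprod.inl) (a • biprod.inl - f' ≫ biprod.inr) ≫ (biprod.snd : Q ⊞ R ⟶ R) =
      -(biprod.snd ≫ f') := by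
  refine biprod.hom_ext' _ _ ?_ ?_ <;> simp [Preadditive.comp_neg, Preadditive.sub_comp]

theorem d_q : ∀ t n, (cone K g).d t n ≫ q K g t n = q K g (t + 1) n ≫ K.d t n + g ^ (n + 1) • p₂ K g t n
  | 0, _ => (Category.comp_id _).trans (aux_desc _ _)
  | _ + 1, _ => aux_fst _ _ _

theorem d_p₂ (t n : ℕ) : (cone K g).d (t + 1) n ≫ p₂ K g t n = -(p₂ K g (t + 1) n ≫ K.d t n) :=
  aux_snd _ _ _

variable [HasZeroObject C]

open scoped ZeroObject in
/-- The underlying objects of a constant tower in degree zero. -/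
def constX (M : C) : ℕ → C
  | 0 => M
  | _ + 1 => 0

/-- The constant tower in degree zero. -/
def const (M : C) : Cx C where
  X t _ := constX M t
  φ t _ _ _ := 𝟙 (constX M t)
  φ_refl _ _ := rfl
  φ_comp _ _ _ _ _ _ := Category.comp_id _
  d _ _ := 0
  d_comm _ _ _ _ := by simp
  dd _ _ := comp_zero

/-- The Koszul tower of the powers of the elements of a list. -/
def kos (M : C) : List A → Cx C
  | [] => const M
  | g :: l => cone (kos M l) g

theorem kos_X_zero (M : C) : ∀ (l : List A) (n : ℕ), (kos M l).X 0 n = M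
  | [], _ => rfl
  | g :: l, n => by
    show coneX (kos M l) 0 n = M
    exact kos_X_zero M l n

theorem isZero_kos_X (M : C) : ∀ (l : List A) (t n : ℕ), l.length < t → IsZero ((kos M l).X t n)
  | [], 0, _, h => absurd h (Nat.lt_irrefl 0)
  | [], _ + 1, _, _ => isZero_zero C
  | _ :: l, 0, _, h => absurd h (Nat.not_lt_zero _)
  | _ :: l, t + 1, n, h => by
    have h1 := isZero_kos_X M l (t + 1) n (by simp at h; omega)
    have h2 := isZero_kos_X M l t n (by simp at h; omega)
    show IsZero ((kos M l).X (t + 1) n ⊞ (kos M l).X t n)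
    exact (IsZero.iff_id_eq_zero _).2 (biprod.hom_ext' _ _ (h1.eq_of_src _ _) (h2.eq_of_src _ _))

end Groth.Agent.KosPro27
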