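import Groth.Agent.KosPro27.Hom
import Mathlib.CategoryTheory.Abelian.Basic
import Mathlib.Algebra.Homology.ShortComplex.ShortExact

/-!
Cohomology of the cokernels of a pro-exact tower of complexes.
-/

set_option autoImplicit false
set_option backward.isDefEq.respectTransparency.types false

universe w v u v'

open CategoryTheory CategoryTheory.Limits

noncomputable section

namespace Groth.Agent.KosPro27

variable (A : Type w) [CommRing A] (C : Type u) [Category.{v} C] [Abelian C] [Linear A C]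

/-- A cohomological functor with values in modules. -/
structure DeltaF where
  /-- the groups -/
  F : ℕ → C ⥤ ModuleCat.{v'} A
  additive : ∀ j, (F j).Additive
  linear : ∀ j, haveI := additive j; Functor.Linear A (F j)
  /-- the connecting map -/
  δ : ∀ {S : ShortComplex C}, S.ShortExact → ∀ j, (F j).obj S.X₃ →ₗ[A] (F (j + 1)).obj S.X₁
  δ_natural : ∀ {S T : ShortComplex C} (hS : S.ShortExact) (hT : T.ShortExact) (ψ : S ⟶ T) (j : ℕ)
    (x : (F j).obj S.X₃), δ hT j ((F j).map ψ.τ₃ x) = (F (j + 1)).map ψ.τ₁ (δ hS j x)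
  exact₂ : ∀ {S : ShortComplex C}, S.ShortExact → ∀ (j : ℕ) (x : (F j).obj S.X₂),
    (F j).map S.g x = 0 → ∃ y, (F j).map S.f y = x
  exact₃ : ∀ {S : ShortComplex C} (hS : S.ShortExact) (j : ℕ) (x : (F j).obj S.X₃),
    δ hS j x = 0 → ∃ y, (F j).map S.g y = x
  f_δ : ∀ {S : ShortComplex C} (hS : S.ShortExact) (j : ℕ) (x : (F j).obj S.X₃),
    (F (j + 1)).map S.f (δ hS j x) = 0

variable {A C}

/-- Exactness in degree `t + 1` up to transition maps. -/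
def PExact (K : Cx C) (t : ℕ) : Prop :=
  ∀ n, ∃ (m : ℕ) (h : n ≤ m), kernel.ι (K.d t m) ≫ K.φ (t + 1) h ≫ cokernel.π (K.d (t + 1) n) = 0

section SES

variable {X Y : C} (f : X ⟶ Y)

/-- Kernel, source, image. -/
def kerSeq : ShortComplex C :=
  ShortComplex.mk (kernel.ι f) (Abelian.factorThruImage f)
    ((cancel_mono (Abelian.image.ι f)).1 (by rw [Category.assoc, Abelian.image.fac, kernel.condition, zero_comp]))

theorem kerSeq_shortExact : (kerSeq f).ShortExact where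
  exact := by
    let T := ShortComplex.mk (kernel.ι f) f (kernel.condition f)
    let φ : kerSeq f ⟶ T :=
      { τ₁ := 𝟙 _, τ₂ := 𝟙 _, τ₃ := Abelian.image.ι f
        comm₁₂ := (Category.id_comp _).trans (Category.comp_id _).symm
        comm₂₃ := (Category.id_comp _).trans (Abelian.image.fac f).symm }
    haveI : Epi φ.τ₁ := inferInstanceAs (Epi (𝟙 _))
    haveI : IsIso φ.τ₂ := inferInstanceAs (IsIso (𝟙 _))
    haveI : Mono φ.τ₃ := inferInstanceAs (Mono (Abelian.image.ι f))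
    exact (ShortComplex.exact_iff_of_epi_of_isIso_of_mono φ).2
      (ShortComplex.exact_of_f_is_kernel T (kernelIsKernel f))
  mono_f := inferInstanceAs (Mono (kernel.ι f))
  epi_g := inferInstanceAs (Epi (Abelian.factorThruImage f))

/-- Image, target, cokernel. -/
def cokSeq : ShortComplex C :=
  ShortComplex.mk (Abelian.image.ι f) (cokernel.π f) (kernel.condition _)

theorem cokSeq_shortExact : (cokSeq f).ShortExact where
  exact := ShortComplex.exact_of_f_is_kernel _ (kernelIsKernel (cokernel.π f))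
  mono_f := inferInstanceAs (Mono (Abelian.image.ι f))
  epi_g := inferInstanceAs (Epi (cokernel.π f))

end SES

variable (K : Cx C)

/-- Transition maps of the kernels. -/
def φker (t : ℕ) {n m : ℕ} (h : n ≤ m) : kernel (K.d t m) ⟶ kernel (K.d t n) :=
  kernel.map _ _ (K.φ (t + 1) h) (K.φ t h) (K.d_comm t h)

/-- Transition maps of the cokernels. -/
def φcok (t : ℕ) {n m : ℕ} (h : n ≤ m) : cokernel (K.d t m) ⟶ cokernel (K.d t n) :=
  cokernel.map _ _ (K.φ (t + 1) h) (K.φ t h) (K.d_comm t h)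

/-- Transition maps of the images. -/
def φim (t : ℕ) {n m : ℕ} (h : n ≤ m) : Abelian.image (K.d t m) ⟶ Abelian.image (K.d t n) :=
  kernel.map _ _ (K.φ t h) (φcok K t h) (cokernel.π_desc _ _ _)

theorem φker_ι (t : ℕ) {n m : ℕ} (h : n ≤ m) :
    φker K t h ≫ kernel.ι (K.d t n) = kernel.ι (K.d t m) ≫ K.φ (t + 1) h := kernel.lift_ι _ _ _

theorem φim_ι (t : ℕ) {n m : ℕ} (h : n ≤ m) :
    φim K t h ≫ Abelian.image.ι (K.d t n) = Abelian.image.ι (K.d t m) ≫ K.φ t h := kernel.lift_ι _ _ _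

theorem π_φcok (t : ℕ) {n m : ℕ} (h : n ≤ m) :
    cokernel.π (K.d t m) ≫ φcok K t h = K.φ t h ≫ cokernel.π (K.d t n) := cokernel.π_desc _ _ _

theorem fac_φim (t : ℕ) {n m : ℕ} (h : n ≤ m) :
    Abelian.factorThruImage (K.d t m) ≫ φim K t h = K.φ (t + 1) h ≫ Abelian.factorThruImage (K.d t n) := by
  rw [← cancel_mono (Abelian.image.ι (K.d t n)), Category.assoc, φim_ι, ← Category.assoc, Abelian.image.fac,
    Category.assoc, Abelian.image.fac]
  exact K.d_comm t h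

theorem φim_comp (t : ℕ) {n m k : ℕ} (h : n ≤ m) (h' : m ≤ k) :
    φim K t h' ≫ φim K t h = φim K t (h.trans h') := by
  rw [← cancel_mono (Abelian.image.ι (K.d t n)), Category.assoc, φim_ι, φim_ι, ← Category.assoc, φim_ι,
    Category.assoc, K.φ_comp]

theorem φker_comp (t : ℕ) {n m k : ℕ} (h : n ≤ m) (h' : m ≤ k) :
    φker K t h' ≫ φker K t h = φker K t (h.trans h') := by
  rw [← cancel_mono (kernel.ι (K.d t n)), Category.assoc, φker_ι, φker_ι, ← Category.assoc, φker_ι,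
    Category.assoc, K.φ_comp]

/-- The map of kernel sequences. -/
def φkerSeq (t : ℕ) {n m : ℕ} (h : n ≤ m) : kerSeq (K.d t m) ⟶ kerSeq (K.d t n) where
  τ₁ := φker K t h
  τ₂ := K.φ (t + 1) h
  τ₃ := φim K t h
  comm₁₂ := φker_ι K t h
  comm₂₃ := (fac_φim K t h).symm

/-- The map of cokernel sequences. -/
def φcokSeq (t : ℕ) {n m : ℕ} (h : n ≤ m) : cokSeq (K.d t m) ⟶ cokSeq (K.d t n) where
  τ₁ := φim K t h
  τ₂ := K.φ t h
  τ₃ := φcok K t h
  comm₁₂ := φim_ι K t h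
  comm₂₃ := (π_φcok K t h).symm

/-- The image of the next differential inside the kernel. -/
def imToKer (t n : ℕ) : Abelian.image (K.d (t + 1) n) ⟶ kernel (K.d t n) :=
  kernel.lift _ (Abelian.image.ι (K.d (t + 1) n)) ((cancel_epi (Abelian.factorThruImage (K.d (t + 1) n))).1 (by
    rw [← Category.assoc, Abelian.image.fac, K.dd, comp_zero]))

theorem imToKer_φ (t : ℕ) {n m : ℕ} (h : n ≤ m) :
    imToKer K t m ≫ φker K t h = φim K (t + 1) h ≫ imToKer K t n := by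
  rw [← cancel_mono (kernel.ι (K.d t n)), Category.assoc, φker_ι, imToKer, imToKer, kernel.lift_ι_assoc,
    Category.assoc, kernel.lift_ι, φim_ι]

variable (𝒯 : DeltaF A C)

/-- `f_*`. -/
abbrev fm (j : ℕ) {P Q : C} (f : P ⟶ Q) : (𝒯.F j).obj P →ₗ[A] (𝒯.F j).obj Q := ((𝒯.F j).map f).hom

theorem fm_comp (j : ℕ) {P Q R : C} (f : P ⟶ Q) (g : Q ⟶ R) (x : (𝒯.F j).obj P) :
    fm 𝒯 j g (fm 𝒯 j f x) = fm 𝒯 j (f ≫ g) x := by
  unfold fm
  rw [Functor.map_comp]; rfl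

theorem fm_zero (j : ℕ) {P Q : C} (x : (𝒯.F j).obj P) : fm 𝒯 j (0 : P ⟶ Q) x = 0 := by
  haveI := 𝒯.additive j
  unfold fm
  rw [Functor.map_zero]; rfl

/-- Classes on images killed in the complex vanish after transition. -/
def ImVanish (t j : ℕ) : Prop :=
  ∀ n, ∃ (m : ℕ) (h : n ≤ m), ∀ z : (𝒯.F j).obj (Abelian.image (K.d t m)),
    fm 𝒯 j (Abelian.image.ι (K.d t m)) z = 0 → fm 𝒯 j (φim K t h) z = 0

variable {K 𝒯}

theorem imVanish_step {t j : ℕ} (he : PExact K t) (hp : HPro (𝒯.F j) K t)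
    (hv : ImVanish K 𝒯 (t + 1) (j + 1)) : ImVanish K 𝒯 t j := by
  intro n
  obtain ⟨n₁, h₁, hn₁⟩ := hp n
  obtain ⟨n₂, h₂, hn₂⟩ := hv n₁
  obtain ⟨m, h₃, hm⟩ := he n₂
  refine ⟨m, h₁.trans (h₂.trans h₃), fun z hz => ?_⟩
  let g : kernel (K.d t m) ⟶ Abelian.image (K.d (t + 1) n₂) :=
    kernel.lift _ (kernel.ι (K.d t m) ≫ K.φ (t + 1) h₃) (by rw [Category.assoc]; exact hm)
  let hS := kerSeq_shortExact (K.d t m)
  have hd : fm 𝒯 (j + 1) (Abelian.image.ι (K.d (t + 1) n₂)) (fm 𝒯 (j + 1) g (𝒯.δ hS j z)) = 0 := by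
    rw [fm_comp, kernel.lift_ι, ← fm_comp]
    have h0 : fm 𝒯 (j + 1) (kernel.ι (K.d t m)) (𝒯.δ hS j z) = 0 := 𝒯.f_δ hS j z
    rw [h0, map_zero]
  have hz0 := hn₂ _ hd
  have hfac : φker K t (h₂.trans h₃) = g ≫ φim K (t + 1) h₂ ≫ imToKer K t n₁ := by
    rw [← cancel_mono (kernel.ι (K.d t n₁)), φker_ι, Category.assoc, Category.assoc, imToKer, kernel.lift_ι,
      φim_ι, ← Category.assoc g, kernel.lift_ι, Category.assoc, K.φ_comp]
  have hδ : 𝒯.δ (kerSeq_shortExact (K.d t n₁)) j (fm 𝒯 j (φim K t (h₂.trans h₃)) z) = 0 := by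
    refine (𝒯.δ_natural hS (kerSeq_shortExact (K.d t n₁)) (φkerSeq K t (h₂.trans h₃)) j z).trans ?_
    show fm 𝒯 (j + 1) (φker K t (h₂.trans h₃)) (𝒯.δ hS j z) = 0
    rw [hfac, ← fm_comp, ← fm_comp]
    exact (congrArg _ hz0).trans (map_zero _)
  obtain ⟨v, hv'⟩ := 𝒯.exact₃ _ j _ hδ
  have hcyc : fm 𝒯 j (K.d t n₁) v = 0 := by
    rw [← Abelian.image.fac (K.d t n₁), ← fm_comp]
    have e : fm 𝒯 j (Abelian.factorThruImage (K.d t n₁)) v = fm 𝒯 j (φim K t (h₂.trans h₃)) z := hv'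
    rw [e, fm_comp, φim_ι, ← fm_comp, hz, map_zero]
  obtain ⟨u, hu⟩ := hn₁ v hcyc
  haveI := 𝒯.additive j
  rw [← φim_comp K t h₁ (h₂.trans h₃), ← fm_comp]
  refine (congrArg (fm 𝒯 j (φim K t h₁)) hv'.symm).trans ?_
  show fm 𝒯 j (φim K t h₁) (fm 𝒯 j (Abelian.factorThruImage (K.d t n₁)) v) = 0
  rw [fm_comp, fac_φim, ← fm_comp]
  refine (congrArg (fm 𝒯 j (Abelian.factorThruImage (K.d t n))) hu.symm).trans ?_
  show fm 𝒯 j (Abelian.factorThruImage (K.d t n)) (fm 𝒯 j (K.d (t + 1) n) u) = 0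
  rw [fm_comp]
  have h0 : K.d (t + 1) n ≫ Abelian.factorThruImage (K.d t n) = 0 := by
    rw [← cancel_mono (Abelian.image.ι (K.d t n)), Category.assoc, Abelian.image.fac, K.dd, zero_comp]
  rw [h0, fm_zero]

theorem imVanish_of_isZero {t j : ℕ} (h : ∀ n, IsZero (K.X (t + 1) n)) : ImVanish K 𝒯 t j := fun n =>
  ⟨n, le_rfl, fun z _ => by
    have h0 : φim K t (le_refl n) = 0 :=
      (cancel_epi (Abelian.factorThruImage (K.d t n))).1 ((h n).eq_of_src _ _)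
    rw [h0, fm_zero]⟩

theorem imVanish_of_bound {r : ℕ} (hz : ∀ t n, r < t → IsZero (K.X t n)) (he : ∀ t, PExact K t) (j : ℕ)
    (hp : ∀ t, t < r → HPro (𝒯.F (j + t)) K t) : ∀ k t, r ≤ t + k → ImVanish K 𝒯 t (j + t) := by
  intro k
  induction k with
  | zero => exact fun t ht => imVanish_of_isZero fun n => hz _ _ (by omega)
  | succ k ih =>
    intro t ht
    by_cases h : r ≤ t
    · exact imVanish_of_isZero fun n => hz _ _ (by omega)
    · exact imVanish_step (he t) (hp t (by omega)) (ih (t + 1) (by omega))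

/-- Classes on the cokernels come from the complex, up to transition. -/
theorem cok_surj {j : ℕ} (hv : ImVanish K 𝒯 0 (j + 1)) (n : ℕ) :
    ∃ (m : ℕ) (h : n ≤ m), ∀ z : (𝒯.F j).obj (cokernel (K.d 0 m)),
      ∃ x, fm 𝒯 j (cokernel.π (K.d 0 n)) x = fm 𝒯 j (φcok K 0 h) z := by
  obtain ⟨m, h, hm⟩ := hv n
  refine ⟨m, h, fun z => ?_⟩
  have h1 := hm _ (𝒯.f_δ (cokSeq_shortExact (K.d 0 m)) j z)
  obtain ⟨x, hx⟩ := 𝒯.exact₃ (cokSeq_shortExact (K.d 0 n)) j (fm 𝒯 j (φcok K 0 h) z)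
    ((𝒯.δ_natural (cokSeq_shortExact (K.d 0 m)) (cokSeq_shortExact (K.d 0 n)) (φcokSeq K 0 h) j z).trans h1)
  exact ⟨x, hx⟩

/-- Classes vanishing on the cokernels are boundaries, up to transition. -/
theorem cok_ker {j : ℕ} (he : PExact K 0) (hv : ImVanish K 𝒯 1 (j + 1)) (n : ℕ) :
    ∃ (m : ℕ) (h : n ≤ m), ∀ x : (𝒯.F j).obj (K.X 0 m), fm 𝒯 j (cokernel.π (K.d 0 m)) x = 0 →
      ∃ u, fm 𝒯 j (K.d 0 n) u = fm 𝒯 j (K.φ 0 h) x := by
  obtain ⟨n₂, h₂, hn₂⟩ := hv n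
  obtain ⟨m, h₃, hm⟩ := he n₂
  refine ⟨m, h₂.trans h₃, fun x hx => ?_⟩
  obtain ⟨y, hy⟩ := 𝒯.exact₂ (cokSeq_shortExact (K.d 0 m)) j x hx
  let g : kernel (K.d 0 m) ⟶ Abelian.image (K.d 1 n₂) :=
    kernel.lift _ (kernel.ι (K.d 0 m) ≫ K.φ 1 h₃) (by rw [Category.assoc]; exact hm)
  let hS := kerSeq_shortExact (K.d 0 m)
  have hd : fm 𝒯 (j + 1) (Abelian.image.ι (K.d 1 n₂)) (fm 𝒯 (j + 1) g (𝒯.δ hS j y)) = 0 := by
    rw [fm_comp, kernel.lift_ι, ← fm_comp]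
    have h0 : fm 𝒯 (j + 1) (kernel.ι (K.d 0 m)) (𝒯.δ hS j y) = 0 := 𝒯.f_δ hS j y
    rw [h0, map_zero]
  have hz0 := hn₂ _ hd
  have hfac : φker K 0 (h₂.trans h₃) = g ≫ φim K 1 h₂ ≫ imToKer K 0 n := by
    rw [← cancel_mono (kernel.ι (K.d 0 n)), φker_ι, Category.assoc, Category.assoc, imToKer, kernel.lift_ι,
      φim_ι, ← Category.assoc g, kernel.lift_ι, Category.assoc, K.φ_comp]
  have hδ : 𝒯.δ (kerSeq_shortExact (K.d 0 n)) j (fm 𝒯 j (φim K 0 (h₂.trans h₃)) y) = 0 := by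
    refine (𝒯.δ_natural hS (kerSeq_shortExact (K.d 0 n)) (φkerSeq K 0 (h₂.trans h₃)) j y).trans ?_
    show fm 𝒯 (j + 1) (φker K 0 (h₂.trans h₃)) (𝒯.δ hS j y) = 0
    rw [hfac, ← fm_comp, ← fm_comp]
    exact (congrArg _ hz0).trans (map_zero _)
  obtain ⟨u, hu⟩ := 𝒯.exact₃ _ j _ hδ
  refine ⟨u, ?_⟩
  rw [← Abelian.image.fac (K.d 0 n), ← fm_comp]
  refine (congrArg (fm 𝒯 j (Abelian.image.ι (K.d 0 n))) hu).trans ?_
  rw [fm_comp, φim_ι, ← fm_comp]
  exact congrArg _ hy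

end Groth.Agent.KosPro27
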