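import Groth.Agent.KosPro27.Cx

/-!
The homology of Koszul towers is pro-zero for modules with bounded torsion.
-/

set_option autoImplicit false
set_option backward.isDefEq.respectTransparency.types false

universe w v u v' u'

open CategoryTheory CategoryTheory.Limits

noncomputable section

namespace Groth.Agent.KosPro27

variable {A : Type w} [CommRing A] {C : Type u} [Category.{v} C] [Preadditive C] [Linear A C]
  [HasBinaryBiproducts C] (Φ : C ⥤ ModuleCat.{v'} A)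

/-- The homology in degree `t + 1` is pro-zero after applying `Φ`. -/
def HPro (K : Cx C) (t : ℕ) : Prop :=
  ∀ n, ∃ (m : ℕ) (h : n ≤ m), ∀ w : Φ.obj (K.X (t + 1) m), Φ.map (K.d t m) w = 0 →
    ∃ u, Φ.map (K.d (t + 1) n) u = Φ.map (K.φ (t + 1) h) w

/-- Torsion with respect to any element is bounded on all quotients by ideals. -/
def BddTors (H : Type v') [AddCommGroup H] [Module A H] : Prop :=
  ∀ (J : Ideal A) (g : A), ∃ c : ℕ, ∀ (k : ℕ) (y : H),
    g ^ k • y ∈ J • (⊤ : Submodule A H) → g ^ c • y ∈ J • (⊤ : Submodule A H)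

theorem bddTors_of_isNoetherian {B : Type*} [CommRing B] [Algebra A B] {H : Type v'} [AddCommGroup H]
    [Module A H] [Module B H] [IsScalarTower A B H] [IsNoetherian B H] : BddTors (A := A) H := by
  intro J g
  let P : Submodule B H := J.map (algebraMap A B) • ⊤
  have hP : ∀ y : H, y ∈ J • (⊤ : Submodule A H) ↔ y ∈ P := fun y => by
    show y ∈ J • (⊤ : Submodule A H) ↔ y ∈ (J.map (algebraMap A B) • (⊤ : Submodule B H))
    rw [← Submodule.restrictScalars_mem A (J.map (algebraMap A B) • (⊤ : Submodule B H)) y,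
      Ideal.smul_restrictScalars, Submodule.restrictScalars_top]
  let T : ℕ →o Submodule B H :=
    ⟨fun k => Submodule.comap (algebraMap A B (g ^ k) • (LinearMap.id : H →ₗ[B] H)) P, fun k l hkl y hy => by
      simp only [Submodule.mem_comap, LinearMap.smul_apply, LinearMap.id_apply, algebraMap_smul] at hy ⊢
      rw [← Nat.add_sub_cancel' hkl, pow_add, mul_comm, mul_smul, ← algebraMap_smul B (g ^ (l - k))]
      exact P.smul_mem _ hy⟩
  obtain ⟨c, hc⟩ := monotone_stabilizes_iff_noetherian.mpr inferInstance T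
  refine ⟨c, fun k y hy => (hP _).2 ?_⟩
  have h1 : y ∈ T (max c k) := T.monotone (le_max_right c k) (by
    show (algebraMap A B (g ^ k) • (LinearMap.id : H →ₗ[B] H)) y ∈ P
    rw [LinearMap.smul_apply, LinearMap.id_apply, algebraMap_smul]
    exact (hP _).1 hy)
  rw [← hc (max c k) (le_max_left c k)] at h1
  have h2 : (algebraMap A B (g ^ c) • (LinearMap.id : H →ₗ[B] H)) y ∈ P := h1
  rwa [LinearMap.smul_apply, LinearMap.id_apply, algebraMap_smul] at h2

variable [Φ.Additive] [Functor.Linear A Φ]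

theorem map_biprod_total {P Q : C} (x : Φ.obj (P ⊞ Q)) :
    Φ.map biprod.inl (Φ.map biprod.fst x) + Φ.map biprod.inr (Φ.map biprod.snd x) = x := by
  have h := congrArg (fun f => (Φ.map f).hom x) (biprod.total (X := P) (Y := Q))
  simp only [Φ.map_add, Φ.map_comp, Φ.map_id] at h
  exact h

theorem map_comp_apply {P Q R : C} (f : P ⟶ Q) (g : Q ⟶ R) (x : Φ.obj P) :
    Φ.map g (Φ.map f x) = Φ.map (f ≫ g) x := by
  rw [Φ.map_comp]; rfl

theorem map_smul_apply {P Q : C} (a : A) (f : P ⟶ Q) (x : Φ.obj P) :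
    Φ.map (a • f) x = a • Φ.map f x := by
  rw [Functor.map_smul]; rfl

theorem map_sub_apply {P Q : C} (f f' : P ⟶ Q) (x : Φ.obj P) :
    Φ.map (f - f') x = Φ.map f x - Φ.map f' x := by
  rw [Functor.map_sub]; rfl

theorem map_zero_apply {P Q : C} (x : Φ.obj P) : Φ.map (0 : P ⟶ Q) x = 0 := by
  rw [Functor.map_zero]; rfl

theorem map_id_apply {P : C} (x : Φ.obj P) : Φ.map (𝟙 P) x = x := by
  rw [Φ.map_id]; rfl

theorem map_neg_apply {P Q : C} (f : P ⟶ Q) (x : Φ.obj P) : Φ.map (-f) x = -Φ.map f x := by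
  rw [Functor.map_neg]; rfl

theorem map_add_apply {P Q : C} (f f' : P ⟶ Q) (x : Φ.obj P) :
    Φ.map (f + f') x = Φ.map f x + Φ.map f' x := by
  rw [Functor.map_add]; rfl

section Cone

variable (K : Cx C) (g : A)

theorem ext_cone {t n : ℕ} {x y : Φ.obj ((cone K g).X (t + 1) n)}
    (h₁ : Φ.map (q K g (t + 1) n) x = Φ.map (q K g (t + 1) n) y)
    (h₂ : Φ.map (p₂ K g t n) x = Φ.map (p₂ K g t n) y) : x = y := by
  rw [← map_id_apply Φ x, ← map_id_apply Φ y, ← total K g t n, map_add_apply, map_add_apply,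
    ← map_comp_apply, ← map_comp_apply, h₁, h₂, map_comp_apply, map_comp_apply]

theorem q_d (t n : ℕ) (x : Φ.obj ((cone K g).X (t + 1) n)) :
    Φ.map (q K g t n) (Φ.map ((cone K g).d t n) x) =
      Φ.map (K.d t n) (Φ.map (q K g (t + 1) n) x) + g ^ (n + 1) • Φ.map (p₂ K g t n) x := by
  rw [map_comp_apply, d_q, map_add_apply, map_smul_apply, map_comp_apply]

theorem p₂_d (t n : ℕ) (x : Φ.obj ((cone K g).X (t + 2) n)) :
    Φ.map (p₂ K g t n) (Φ.map ((cone K g).d (t + 1) n) x) = -Φ.map (K.d t n) (Φ.map (p₂ K g (t + 1) n) x) := by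
  rw [map_comp_apply, d_p₂, map_neg_apply, map_comp_apply]

theorem q_φ (t : ℕ) {n m : ℕ} (h : n ≤ m) (x : Φ.obj ((cone K g).X t m)) :
    Φ.map (q K g t n) (Φ.map ((cone K g).φ t h) x) = Φ.map (K.φ t h) (Φ.map (q K g t m) x) := by
  rw [map_comp_apply, φ_q, map_comp_apply]

theorem p₂_φ (t : ℕ) {n m : ℕ} (h : n ≤ m) (x : Φ.obj ((cone K g).X (t + 1) m)) :
    Φ.map (p₂ K g t n) (Φ.map ((cone K g).φ (t + 1) h) x) =
      g ^ (m - n) • Φ.map (K.φ t h) (Φ.map (p₂ K g t m) x) := by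
  rw [map_comp_apply, φ_p₂, map_smul_apply, map_comp_apply]

theorem q_i₁ (t n : ℕ) (x : Φ.obj (K.X t n)) : Φ.map (q K g t n) (Φ.map (i₁ K g t n) x) = x := by
  rw [map_comp_apply, i₁_q, map_id_apply]

theorem p₂_i₁ (t n : ℕ) (x : Φ.obj (K.X (t + 1) n)) :
    Φ.map (p₂ K g t n) (Φ.map (i₁ K g (t + 1) n) x) = 0 := by
  rw [map_comp_apply, i₁_p₂, map_zero_apply]

theorem q_i₂ (t n : ℕ) (x : Φ.obj (K.X t n)) :
    Φ.map (q K g (t + 1) n) (Φ.map (i₂ K g t n) x) = 0 := by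
  rw [map_comp_apply, i₂_q, map_zero_apply]

theorem p₂_i₂ (t n : ℕ) (x : Φ.obj (K.X t n)) : Φ.map (p₂ K g t n) (Φ.map (i₂ K g t n) x) = x := by
  rw [map_comp_apply, i₂_p₂, map_id_apply]

theorem mem_range_cone (n : ℕ) (y : Φ.obj ((cone K g).X 0 n)) :
    (∃ u, Φ.map ((cone K g).d 0 n) u = y) ↔
      ∃ v b, Φ.map (K.d 0 n) v + g ^ (n + 1) • b = Φ.map (q K g 0 n) y := by
  constructor
  · rintro ⟨u, rfl⟩
    exact ⟨Φ.map (q K g 1 n) u, Φ.map (p₂ K g 0 n) u, (q_d Φ K g 0 n u).symm⟩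
  · rintro ⟨v, b, hy⟩
    refine ⟨Φ.map (i₁ K g 1 n) v + Φ.map (i₂ K g 0 n) b, ?_⟩
    have hinj : Function.Injective (Φ.map (q K g 0 n)) :=
      Function.LeftInverse.injective (g := Φ.map (i₁ K g 0 n)) fun x => by
        rw [map_comp_apply, q_i₁_zero, map_id_apply]
    apply hinj
    rw [q_d, map_add (Φ.map (q K g (0 + 1) n)).hom, map_add (Φ.map (p₂ K g 0 n)).hom, q_i₁, q_i₂, p₂_i₁, p₂_i₂,
      add_zero, zero_add b, hy]

end Cone

omit [Linear A C] [HasBinaryBiproducts C] [Φ.Additive] [Functor.Linear A Φ] in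
theorem map_φ_comp (K : Cx C) (t : ℕ) {n m k : ℕ} (h : n ≤ m) (h' : m ≤ k) (x : Φ.obj (K.X t k)) :
    Φ.map (K.φ t h) (Φ.map (K.φ t h') x) = Φ.map (K.φ t (h.trans h')) x := by
  rw [← K.φ_comp t h h', Φ.map_comp]; rfl

/-- The induction step, from the homology of the second summand. -/
theorem hPro_cone (K : Cx C) (g : A) (t : ℕ) (hK : HPro Φ K t)
    (hb : ∀ n, ∃ (m : ℕ) (h : n ≤ m), ∀ w : Φ.obj ((cone K g).X (t + 1) m), Φ.map ((cone K g).d t m) w = 0 →
      ∃ c, Φ.map (K.d t n) c = g ^ (m - n) • Φ.map (K.φ t h) (Φ.map (p₂ K g t m) w)) :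
    HPro Φ (cone K g) t := by
  intro n
  obtain ⟨n₁, h₁, hn₁⟩ := hK n
  obtain ⟨m, h₂, hm⟩ := hb n₁
  refine ⟨m, h₁.trans h₂, fun w hw => ?_⟩
  obtain ⟨c, hc⟩ := hm w hw
  let a : Φ.obj (K.X (t + 1) n₁) := Φ.map (K.φ (t + 1) h₂) (Φ.map (q K g (t + 1) m) w) + g ^ (n₁ + 1) • c
  have e : Φ.map ((cone K g).φ (t + 1) h₂) w + Φ.map ((cone K g).d (t + 1) n₁) (Φ.map (i₂ K g (t + 1) n₁) c) =
      Φ.map (i₁ K g (t + 1) n₁) a := by
    refine ext_cone Φ K g ?_ ?_
    · rw [map_add, q_φ, q_d, q_i₂, map_zero, zero_add, p₂_i₂, q_i₁]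
    · rw [map_add, p₂_φ, p₂_d, p₂_i₂, p₂_i₁, ← hc, add_neg_cancel]
  have ha : Φ.map (K.d t n₁) a = 0 := by
    have h0 : Φ.map ((cone K g).d t n₁) (Φ.map (i₁ K g (t + 1) n₁) a) = 0 := by
      rw [← e, map_add, map_comp_apply Φ ((cone K g).d (t + 1) n₁), (cone K g).dd, map_zero_apply, add_zero,
        map_comp_apply, ← (cone K g).d_comm, ← map_comp_apply, hw, map_zero]
    have h1 := q_d Φ K g t n₁ (Φ.map (i₁ K g (t + 1) n₁) a)
    rw [h0, map_zero, q_i₁, p₂_i₁, smul_zero, add_zero] at h1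
    exact h1.symm
  obtain ⟨u, hu⟩ := hn₁ a ha
  refine ⟨Φ.map (i₁ K g (t + 2) n) u - Φ.map ((cone K g).φ (t + 2) h₁) (Φ.map (i₂ K g (t + 1) n₁) c), ?_⟩
  rw [← map_φ_comp Φ (cone K g) (t + 1) h₁ h₂, eq_sub_of_add_eq e, map_sub, map_sub]
  congr 1
  · refine ext_cone Φ K g ?_ ?_
    · rw [q_d, q_i₁, p₂_i₁, smul_zero, add_zero, q_φ, q_i₁, hu]
    · rw [p₂_d, p₂_i₁, map_zero, neg_zero, p₂_φ, p₂_i₁, map_zero, smul_zero]
  · rw [map_comp_apply Φ ((cone K g).φ (t + 2) h₁), map_comp_apply Φ ((cone K g).d (t + 1) n₁),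
      (cone K g).d_comm]

/-- The ideal generated by the powers of the elements of a list. -/
def powI : List A → ℕ → Ideal A
  | [], _ => ⊥
  | g :: l, n => powI l n ⊔ Ideal.span {g ^ (n + 1)}

variable [HasZeroObject C]

theorem mem_range_d_zero (M : C) : ∀ (l : List A) (n : ℕ) (y : Φ.obj ((kos M l).X 0 n)),
    (∃ u, Φ.map ((kos M l).d 0 n) u = y) ↔
      y ∈ powI l n • (⊤ : Submodule A (Φ.obj ((kos M l).X 0 n)))
  | [], n, y => by
    rw [powI, Submodule.bot_smul, Submodule.mem_bot]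
    constructor
    · rintro ⟨u, rfl⟩
      exact map_zero_apply Φ u
    · rintro rfl
      exact ⟨0, map_zero _⟩
  | g :: l, n, y => by
    let K := kos M l
    have key : ∀ y₀ : Φ.obj (K.X 0 n),
        y₀ ∈ (powI (g :: l) n) • (⊤ : Submodule A (Φ.obj (K.X 0 n))) ↔
          ∃ v b, Φ.map (K.d 0 n) v + g ^ (n + 1) • b = y₀ := fun y₀ => by
      rw [powI, Submodule.sup_smul, Submodule.mem_sup]
      constructor
      · rintro ⟨p, hp, r, hr, rfl⟩
        obtain ⟨v, hv⟩ := (mem_range_d_zero M l n p).2 hp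
        rw [Submodule.ideal_span_singleton_smul] at hr
        obtain ⟨b, -, rfl⟩ := hr
        exact ⟨v, b, by rw [hv]; rfl⟩
      · rintro ⟨v, b, rfl⟩
        refine ⟨_, (mem_range_d_zero M l n _).1 ⟨v, rfl⟩, g ^ (n + 1) • b, ?_, rfl⟩
        rw [Submodule.ideal_span_singleton_smul]
        exact ⟨b, Submodule.mem_top, rfl⟩
    refine (mem_range_cone Φ K g n y).trans ((key (Φ.map (q K g 0 n) y)).symm.trans ?_)
    have e : Φ.map (q K g 0 n) y = y := map_id_apply Φ y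
    rw [e]
    rfl

theorem bddTors_X_zero (M : C) (h : BddTors (A := A) (Φ.obj M)) (l : List A) (n : ℕ) :
    BddTors (A := A) (Φ.obj ((kos M l).X 0 n)) := by
  rw [kos_X_zero]
  exact h

/-- The homology of Koszul towers in positive degrees is pro-zero. -/
theorem hPro_kos (M : C) (h : BddTors (A := A) (Φ.obj M)) : ∀ (l : List A) (t : ℕ), HPro Φ (kos M l) t
  | [], t => fun n => ⟨n, le_rfl, fun w _ => ⟨0, by
      have hw : IsZero ((kos (A := A) M []).X (t + 1) n) := isZero_zero C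
      rw [map_zero]
      exact ((congrArg (fun f => Φ.map f w) (hw.eq_of_src ((kos (A := A) M []).φ (t + 1) le_rfl) 0)).trans
        (map_zero_apply Φ w)).symm⟩⟩
  | g :: l, t => by
    refine hPro_cone Φ (kos M l) g t (hPro_kos M h l t) fun n => ?_
    cases t with
    | zero =>
      obtain ⟨c, hc⟩ := bddTors_X_zero Φ M h l n (powI l n) g
      refine ⟨n + c, Nat.le_add_right n c, fun w hw => ?_⟩
      have h0 := q_d Φ (kos M l) g 0 (n + c) w
      rw [hw, map_zero] at h0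
      have h1 := congrArg (fun z => Φ.map ((kos M l).φ 0 (Nat.le_add_right n c)) z) h0.symm
      simp only [map_add, map_smul, map_zero] at h1
      rw [map_comp_apply, (kos M l).d_comm, ← map_comp_apply] at h1
      have hmem := (mem_range_d_zero Φ M l n _).1 ⟨Φ.map ((kos M l).φ 1 (Nat.le_add_right n c))
        (Φ.map (q (kos M l) g 1 (n + c)) w), rfl⟩
      rw [eq_neg_of_add_eq_zero_left h1, Submodule.neg_mem_iff] at hmem
      rw [Nat.add_sub_cancel_left]
      exact (mem_range_d_zero Φ M l n _).2 (hc _ _ hmem)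
    | succ t =>
      obtain ⟨m, hm, hm'⟩ := hPro_kos M h l t n
      refine ⟨m, hm, fun w hw => ?_⟩
      have hb := p₂_d Φ (kos M l) g t m w
      rw [hw, map_zero, eq_comm, neg_eq_zero] at hb
      obtain ⟨u, hu⟩ := hm' _ hb
      exact ⟨g ^ (m - n) • u, by rw [map_smul, hu]⟩

end Groth.Agent.KosPro27
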