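import Groth.Agent.KosPro27.Hom
import Mathlib.RingTheory.Finiteness.Ideal

/-!
The bottom of a Koszul tower.
-/

set_option autoImplicit false
set_option backward.isDefEq.respectTransparency.types false

universe w v u

open CategoryTheory CategoryTheory.Limits

noncomputable section

namespace Groth.Agent.KosPro27

variable {A : Type w} [CommRing A] {C : Type u} [Category.{v} C] [Preadditive C] [Linear A C]
  [HasBinaryBiproducts C] [HasZeroObject C] (M : C)

/-- The bottom of the Koszul tower is the module. -/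
def kosIso : ∀ (l : List A) (n : ℕ), (kos M l).X 0 n ≅ M
  | [], _ => Iso.refl M
  | _ :: l, n => (kosIso l n : (kos M l).X 0 n ≅ M)

theorem φ_kosIso : ∀ (l : List A) {n m : ℕ} (h : n ≤ m),
    (kos M l).φ 0 h ≫ (kosIso M l n).hom = (kosIso M l m).hom
  | [], _, _, _ => Category.id_comp _
  | _ :: l, _, _, h => φ_kosIso l h

theorem kosIso_inv_φ (l : List A) {n m : ℕ} (h : n ≤ m) :
    (kosIso M l m).inv ≫ (kos M l).φ 0 h = (kosIso M l n).inv := by
  rw [← cancel_mono (kosIso M l n).hom, Category.assoc, φ_kosIso, Iso.inv_hom_id, Iso.inv_hom_id]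

/-- The elements killing a morphism form an ideal. -/
def killer {Z : C} (h : M ⟶ Z) : Ideal A where
  carrier := {a | a • h = 0}
  add_mem' {a b} (ha : a • h = 0) (hb : b • h = 0) := show (a + b) • h = 0 by rw [add_smul, ha, hb, add_zero]
  zero_mem' := zero_smul A h
  smul_mem' c a (ha : a • h = 0) := show (c * a) • h = 0 by rw [mul_smul, ha, smul_zero]

/-- Maps vanishing on the first differential are those killed by the ideal of powers. -/
theorem d_zero_comp_eq_zero_iff : ∀ (l : List A) (n : ℕ) {Z : C} (h : M ⟶ Z),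
    (kos M l).d 0 n ≫ (kosIso M l n).hom ≫ h = 0 ↔ powI l n ≤ killer M h
  | [], n, Z, h => by
    refine iff_of_true ?_ bot_le
    show (0 : (kos (A := A) M []).X 1 n ⟶ M) ≫ _ = 0
    exact zero_comp
  | g :: l, n, Z, h => by
    let K := kos M l
    let e : K.X 0 n ≅ M := kosIso M l n
    have key : biprod.desc (K.d 0 n) (g ^ (n + 1) • 𝟙 (K.X 0 n)) ≫ e.hom ≫ h = 0 ↔
        K.d 0 n ≫ e.hom ≫ h = 0 ∧ g ^ (n + 1) • h = 0 := by
      constructor
      · intro hh
        refine ⟨?_, ?_⟩
        · have := congrArg (fun k => biprod.inl ≫ k) hh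
          simpa using this
        · have := congrArg (fun k => biprod.inr ≫ k) hh
          simp only [biprod.inr_desc_assoc, comp_zero, Linear.smul_comp, Category.id_comp] at this
          rwa [← Linear.comp_smul, ← comp_zero (X := K.X 0 n) (f := e.hom), cancel_epi] at this
      · rintro ⟨h1, h2⟩
        refine biprod.hom_ext' _ _ ?_ ?_
        · rw [biprod.inl_desc_assoc, h1, comp_zero]
        · rw [biprod.inr_desc_assoc, Linear.smul_comp, Category.id_comp, ← Linear.comp_smul, h2, comp_zero,
            comp_zero]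
    refine key.trans ?_
    rw [powI, sup_le_iff, Ideal.span_singleton_le_iff_mem]
    exact and_congr (d_zero_comp_eq_zero_iff l n h) Iff.rfl

theorem mem_powI : ∀ (l : List A) (n : ℕ) (g : A), g ∈ l → g ^ (n + 1) ∈ powI l n
  | [], _, _, h => (List.not_mem_nil h).elim
  | a :: l, n, g, h => by
    rcases List.mem_cons.1 h with rfl | h
    · exact Ideal.mem_sup_right (Ideal.mem_span_singleton_self _)
    · exact Ideal.mem_sup_left (mem_powI l n g h)

theorem powI_le_pow (I : Ideal A) : ∀ (l : List A), (∀ g ∈ l, g ∈ I) → ∀ n, powI l n ≤ I ^ (n + 1)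
  | [], _, _ => bot_le
  | a :: l, h, n => sup_le (powI_le_pow I l (fun g hg => h g (List.mem_cons_of_mem a hg)) n)
      ((Ideal.span_singleton_le_iff_mem _).2 (Ideal.pow_mem_pow (h a List.mem_cons_self) _))

theorem exists_pow_le_powI {l : List A} (I : Ideal A) (hI : I = Ideal.span {g | g ∈ l}) (n : ℕ) :
    ∃ N, I ^ N ≤ powI l n := by
  refine Ideal.exists_pow_le_of_le_radical_of_fg ?_ ⟨l.finite_toSet.toFinset, by simp [hI]⟩
  rw [hI, Ideal.span_le]
  exact fun g hg => ⟨n + 1, mem_powI l n g hg⟩

end Groth.Agent.KosPro27
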