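import Groth.Agent.KosPro27.Engine
import Groth.Agent.KosPro27.Quot
import Groth.Agent.Formal27.TorsHom
import Groth.Agent.Crv77.HH
import Groth.Agent.FormalLC27.Main
import Groth.Agent.QC70.FiniteType
import Groth.Agent.QC70.Colim
import Groth.Agent.EGAProj74.BundleSum

/-!
Formal functions for a coherent module with finite cohomology.
-/


set_option autoImplicit false
set_option backward.isDefEq.respectTransparency.types false

universe u

open CategoryTheory CategoryTheory.Limits AlgebraicGeometry Opposite TopologicalSpace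

noncomputable section

namespace Groth.Agent.KosPro27

theorem ext_comp_add.{w, v, v'} {C : Type v} [Category.{v'} C] [Abelian C] [HasExt.{w} C] {Z P Q : C} {n : ℕ}
    (x : Abelian.Ext.{w} Z P n) (f g : P ⟶ Q) :
    Abelian.Ext.comp x (Abelian.Ext.mk₀ (f + g)) (add_zero n) =
      Abelian.Ext.comp x (Abelian.Ext.mk₀ f) (add_zero n) + Abelian.Ext.comp x (Abelian.Ext.mk₀ g) (add_zero n) := by
  rw [Abelian.Ext.mk₀_add, Abelian.Ext.comp_add]

variable (A : Type u) [CommRing A] (X : Scheme.{u}) [X.Over (Spec (CommRingCat.of A))]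

open Formal27 in
/-- Scalar multiplication on homomorphisms of modules. -/
@[reducible] def homModule (M N : X.Modules) : Module A (M ⟶ N) where
  smul a f := Formal.smulMod A M a ≫ f
  mul_smul a b f := by
    show Formal.smulMod A M (a * b) ≫ f = Formal.smulMod A M a ≫ Formal.smulMod A M b ≫ f
    rw [mul_comm, smulMod_mul, Category.assoc]
  one_smul f := by
    show Formal.smulMod A M (1 : A) ≫ f = f
    rw [smulMod_one, Category.id_comp]
  smul_zero a := comp_zero
  smul_add a f f' := Preadditive.comp_add _ _ _ _ _ _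
  add_smul a b f := by
    show Formal.smulMod A M (a + b) ≫ f = Formal.smulMod A M a ≫ f + Formal.smulMod A M b ≫ f
    rw [smulMod_add, Preadditive.add_comp]
  zero_smul f := by
    show Formal.smulMod A M (0 : A) ≫ f = 0
    rw [smulMod_zero, zero_comp]

/-- Modules on `X` form an `A`-linear category. -/
@[reducible] def linearModules : Linear A X.Modules where
  homModule := homModule A X
  smul_comp M N P a f g := Category.assoc _ _ _
  comp_smul M N P f a g := by
    show f ≫ Formal.smulMod A N a ≫ g = Formal.smulMod A M a ≫ f ≫ g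
    rw [Formal27.smulMod_comp_assoc]

attribute [local instance] linearModules

/-- Cohomology as a cohomological functor. -/
def hFun (j : ℕ) : X.Modules ⥤ ModuleCat.{u} A where
  obj M := ModuleCat.of A (Coh.HH X M j)
  map φ := ModuleCat.ofHom (Crv77.hmap A φ j)
  map_id M := ModuleCat.hom_ext (LinearMap.ext fun x => Crv77.hmap_id A M j x)
  map_comp φ ψ := ModuleCat.hom_ext (LinearMap.ext fun x => (Crv77.hmap_comp A φ ψ j x).symm)

theorem hmap_add {M N : X.Modules} (φ ψ : M ⟶ N) (j : ℕ) (x : Coh.HH X M j) :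
    Crv77.hmap A (φ + ψ) j x = Crv77.hmap A φ j x + Crv77.hmap A ψ j x :=
  (congrArg (fun f => Abelian.Ext.comp x (Abelian.Ext.mk₀ f) (add_zero j))
    ((Crv77.toAbF X).map_add (f := φ) (g := ψ))).trans (ext_comp_add _ _ _)

instance additive_hFun (j : ℕ) : (hFun A X j).Additive where
  map_add {M N φ ψ} := ModuleCat.hom_ext (LinearMap.ext fun x => hmap_add A X φ ψ j x)

theorem linear_hFun (j : ℕ) : Functor.Linear A (hFun A X j) where
  map_smul {M N} φ a := ModuleCat.hom_ext (LinearMap.ext fun x => by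
    show Crv77.hmap A (Formal.smulMod A M a ≫ φ) j x = a • Crv77.hmap A φ j x
    rw [← Crv77.hmap_comp, ← map_smul]
    rfl)

/-- Cohomology as a cohomological functor. -/
def hDelta : DeltaF.{u} A X.Modules where
  F := hFun A X
  additive := additive_hFun A X
  linear := linear_hFun A X
  δ hS j := Crv77.hδ A hS j
  δ_natural hS hT ψ j x := FormalLC27.hδ_natural A hS hT ψ j x
  exact₂ hS j x hx := (Crv77.exact_f_g A hS j x).1 hx
  exact₃ hS j x hx := (Crv77.exact_g_δ A hS j x).1 hx
  f_δ hS j x := (Crv77.exact_δ_f A hS j (Crv77.hδ A hS j x)).2 ⟨x, rfl⟩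

section Sect

variable (V : X.Opens)

/-- The module structure on sections. -/
@[reducible] def sectModule (M : X.Modules) : Module A Γ(M, V) := Module.compHom _ (Formal27.gi A X V)

/-- Sections over `V`. -/
def sectFun : X.Modules ⥤ ModuleCat.{u} A where
  obj M := letI := sectModule A X V M; ModuleCat.of A Γ(M, V)
  map {M N} φ := letI := sectModule A X V M; letI := sectModule A X V N
    ModuleCat.ofHom
      { toFun := φ.app V
        map_add' := map_add _
        map_smul' := fun a m => Scheme.Modules.Hom.app_smul φ _ m }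
  map_id M := rfl
  map_comp φ ψ := rfl

instance additive_sectFun : (sectFun A X V).Additive where
  map_add := rfl

instance linear_sectFun : Functor.Linear A (sectFun A X V) where
  map_smul {M N} φ a := ModuleCat.hom_ext (LinearMap.ext fun m => Scheme.Modules.Hom.app_smul φ _ m)

end Sect

variable {A X}

theorem isQuasicoherent_kos {F : X.Modules} (hF : F.IsQuasicoherent) :
    ∀ (l : List A) (t n : ℕ), ((kos F l).X t n).IsQuasicoherent
  | [], 0, _ => hF
  | [], _ + 1, _ => QC70.isQuasicoherent_of_isZero (isZero_zero _)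
  | _ :: l, 0, n => isQuasicoherent_kos hF l 0 n
  | _ :: l, t + 1, n =>
    EGAProj74.isQuasicoherent_biprod (isQuasicoherent_kos hF l (t + 1) n) (isQuasicoherent_kos hF l t n)

theorem bddTors_sections [IsLocallyNoetherian X] {F : X.Modules} (hF : Coh.IsCoh F) {V : X.Opens}
    (hV : IsAffineOpen V) : BddTors (A := A) ((sectFun A X V).obj F) := by
  haveI := hF.1
  haveI := hF.2
  haveI : IsNoetherianRing Γ(X, V) := IsLocallyNoetherian.component_noetherian ⟨V, hV⟩
  letI : Algebra A Γ(X, V) := (Formal27.gi A X V).toAlgebra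
  letI := sectModule A X V F
  haveI : IsScalarTower A Γ(X, V) Γ(F, V) := IsScalarTower.of_algebraMap_smul fun _ _ => rfl
  haveI : Module.Finite Γ(X, V) Γ(F, V) := QC70.finite_sections_of_isFiniteType F hV
  haveI : IsNoetherian Γ(X, V) Γ(F, V) := isNoetherian_of_isNoetherianRing_of_finite _ _
  have h : BddTors (A := A) Γ(F, V) := bddTors_of_isNoetherian (B := Γ(X, V))
  exact h

theorem pExact_kos [IsLocallyNoetherian X] [CompactSpace X] {F : X.Modules} (hF : Coh.IsCoh F) (l : List A)
    (t : ℕ) : PExact (kos F l) t := by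
  classical
  intro n
  obtain ⟨s, hs⟩ := Formal27.exists_cover (X := X)
  choose m hnm hm using fun W : X.affineOpens =>
    hPro_kos (sectFun A X W.1) F (bddTors_sections hF W.2) l t n
  refine ⟨max n (s.sup m), le_max_left _ _, ?_⟩
  haveI : (kernel ((kos F l).d t (max n (s.sup m)))).IsQuasicoherent :=
    haveI := isQuasicoherent_kos hF.1 l (t + 1) (max n (s.sup m))
    haveI := isQuasicoherent_kos hF.1 l t (max n (s.sup m))
    QC70.isQuasicoherent_kernel _
  refine Formal27.eq_zero_of_cover _ (s : Set X.affineOpens) hs fun W hW x => ?_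
  have hmM : m W ≤ max n (s.sup m) := (Finset.le_sup hW).trans (le_max_right _ _)
  let Φ := sectFun A X W.1
  let K := kos F l
  let x' : Φ.obj (kernel (K.d t (max n (s.sup m)))) := x
  let w₀ := Φ.map (kernel.ι (K.d t (max n (s.sup m)))) x'
  have h0 : Φ.map (K.d t (m W)) (Φ.map (K.φ (t + 1) hmM) w₀) = 0 := by
    rw [map_comp_apply, map_comp_apply, ← K.d_comm, kernel.condition_assoc, zero_comp, map_zero_apply]
  obtain ⟨v, hv⟩ := hm W _ h0
  show Φ.map (kernel.ι _ ≫ K.φ (t + 1) _ ≫ cokernel.π (K.d (t + 1) n)) x' = 0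
  rw [← map_comp_apply, ← map_comp_apply, ← map_φ_comp Φ K (t + 1) (hnm W) hmM, ← hv, map_comp_apply,
    cokernel.condition, map_zero_apply]

variable [IsNoetherianRing A]

theorem hPro_hFun {F : X.Modules} {j : ℕ} (h : Module.Finite A (Coh.HH X F j)) (l : List A) (t : ℕ) :
    HPro (hFun A X j) (kos F l) t :=
  haveI := linear_hFun A X j
  haveI : Module.Finite A ((hFun A X j).obj F) := h
  haveI : IsNoetherian A ((hFun A X j).obj F) := isNoetherian_of_isNoetherianRing_of_finite _ _
  hPro_kos _ F (bddTors_of_isNoetherian (B := A)) l t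

theorem imVanish_kos [IsLocallyNoetherian X] [CompactSpace X] {F : X.Modules} (hF : Coh.IsCoh F)
    (hfin : ∀ j, Module.Finite A (Coh.HH X F j)) (l : List A) (t j : ℕ) :
    ImVanish (kos F l) (hDelta A X) t (j + t) :=
  imVanish_of_bound (r := l.length) (fun t n h => isZero_kos_X F l t n h) (pExact_kos hF l) j
    (fun t _ => hPro_hFun (hfin (j + t)) l t) l.length t (Nat.le_add_left _ _)

variable (I : Ideal A) (F : X.Modules)

theorem modPowπ_trans {m n : ℕ} (h : n ≤ m) :
    ∃ τ : Formal.modPow I (m + 1) F ⟶ Formal.modPow I (n + 1) F,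
      Formal.modPowπ I (m + 1) F ≫ τ = Formal.modPowπ I (n + 1) F :=
  ⟨cokernel.desc _ (Formal.modPowπ I (n + 1) F)
    (Formal27.smulFamily_comp_eq_zero _ fun _ ha => Formal27.smulMod_modPowπ I (n + 1) F
      (Ideal.pow_le_pow_right (Nat.succ_le_succ h) ha)), cokernel.π_desc _ _ _⟩

variable {I F}

/-- The transition between quotients factors through the Koszul quotient. -/
theorem exists_compare {l : List A} (hl : I = Ideal.span {g | g ∈ l}) (n : ℕ) :
    ∃ θ : cokernel ((kos F l).d 0 n) ⟶ Formal.modPow I (n + 1) F,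
      cokernel.π _ ≫ θ = (kosIso F l n).hom ≫ Formal.modPowπ I (n + 1) F := by
  refine ⟨cokernel.desc _ ((kosIso F l n).hom ≫ Formal.modPowπ I (n + 1) F) ?_, cokernel.π_desc _ _ _⟩
  rw [d_zero_comp_eq_zero_iff]
  refine (powI_le_pow I l (fun g hg => hl ▸ Ideal.subset_span hg) n).trans fun a ha => ?_
  exact Formal27.smulMod_modPowπ I (n + 1) F ha

theorem exists_compare' {l : List A} (hl : I = Ideal.span {g | g ∈ l}) (n : ℕ) :
    ∃ N₀, ∀ N, N₀ ≤ N → ∃ ρ : Formal.modPow I (N + 1) F ⟶ cokernel ((kos F l).d 0 n),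
      Formal.modPowπ I (N + 1) F ≫ ρ = (kosIso F l n).inv ≫ cokernel.π _ := by
  obtain ⟨N₀, hN₀⟩ := exists_pow_le_powI I hl n
  refine ⟨N₀, fun N hN => ⟨cokernel.desc _ ((kosIso F l n).inv ≫ cokernel.π _) ?_, cokernel.π_desc _ _ _⟩⟩
  refine Formal27.smulFamily_comp_eq_zero _ fun a ha => ?_
  have h0 : (kos F l).d 0 n ≫ (kosIso F l n).hom ≫ (kosIso F l n).inv ≫ cokernel.π ((kos F l).d 0 n) = 0 := by
    rw [Iso.hom_inv_id_assoc, cokernel.condition]
  exact (d_zero_comp_eq_zero_iff F l n _).1 h0 (hN₀ (Ideal.pow_le_pow_right (by omega) ha))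

variable [IsLocallyNoetherian X] [CompactSpace X] (hF : Coh.IsCoh F) (hfin : ∀ j, Module.Finite A (Coh.HH X F j))
  (I)

include hF hfin

/-- Classes on deep quotients come from the module. -/
theorem exists_preimage (j n : ℕ) : ∃ N₀, n ≤ N₀ ∧ ∀ N, N₀ ≤ N → ∀ τ : Formal.modPow I (N + 1) F ⟶ Formal.modPow I (n + 1) F,
    Formal.modPowπ I (N + 1) F ≫ τ = Formal.modPowπ I (n + 1) F →
      ∀ z : Coh.HH X (Formal.modPow I (N + 1) F) j,
        ∃ x, Crv77.hmap A (Formal.modPowπ I (n + 1) F) j x = Crv77.hmap A τ j z := by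
  obtain ⟨s, hs⟩ := (IsNoetherian.noetherian I : I.FG)
  have hl : I = Ideal.span {g | g ∈ s.toList} := by simp [← hs]
  obtain ⟨m, hm, hm'⟩ := cok_surj (j := j) (imVanish_kos hF hfin s.toList 0 (j + 1)) n
  obtain ⟨N₁, hN₁⟩ := exists_compare' (F := F) hl m
  refine ⟨max n N₁, le_max_left _ _, fun N hN τ hτ z => ?_⟩
  obtain ⟨θ, hθ⟩ := exists_compare (F := F) hl n
  obtain ⟨ρ, hρ⟩ := hN₁ N ((le_max_right _ _).trans hN)
  obtain ⟨x, hx⟩ := hm' (fm (hDelta A X) j ρ z)
  have e : τ = ρ ≫ φcok (kos F s.toList) 0 hm ≫ θ := by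
    rw [← cancel_epi (Formal.modPowπ I (N + 1) F), hτ, reassoc_of% hρ, reassoc_of% (π_φcok _ 0 hm), hθ,
      ← Category.assoc, ← Category.assoc, kosIso_inv_φ, Iso.inv_hom_id, Category.id_comp]
  refine ⟨Crv77.hmap A (kosIso F s.toList n).hom j x, ?_⟩
  show fm (hDelta A X) j _ (fm (hDelta A X) j _ x) = fm (hDelta A X) j τ z
  rw [fm_comp, ← hθ, ← fm_comp, hx, e, fm_comp, fm_comp]

/-- Classes vanishing on deep quotients are divisible. -/
theorem exists_kernel_le (j n : ℕ) : ∃ N₀, ∀ N, N₀ ≤ N → ∀ x : Coh.HH X F j,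
    Crv77.hmap A (Formal.modPowπ I (N + 1) F) j x = 0 → x ∈ I ^ (n + 1) • (⊤ : Submodule A (Coh.HH X F j)) := by
  obtain ⟨s, hs⟩ := (IsNoetherian.noetherian I : I.FG)
  have hl : I = Ideal.span {g | g ∈ s.toList} := by simp [← hs]
  obtain ⟨m, hm, hm'⟩ := cok_ker (j := j) (pExact_kos hF s.toList 0) (imVanish_kos hF hfin s.toList 1 j) n
  obtain ⟨N₀, hN₀⟩ := exists_compare' (F := F) hl m
  refine ⟨N₀, fun N hN x hx => ?_⟩
  obtain ⟨ρ, hρ⟩ := hN₀ N hN
  let e := kosIso F s.toList
  let H := hDelta A X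
  have h0 : fm H j (cokernel.π ((kos F s.toList).d 0 m)) (fm H j (e m).inv x) = 0 := by
    rw [fm_comp, ← hρ, ← fm_comp]
    exact (congrArg (fm H j ρ) hx).trans (map_zero _)
  haveI := linear_hFun A X j
  obtain ⟨u, hu⟩ := hm' _ h0
  have hmem := (mem_range_d_zero (hFun A X j) F s.toList n (fm H j (e n).inv x)).1 ⟨u, by
    refine hu.trans ?_
    rw [fm_comp, kosIso_inv_φ]⟩
  have h2 := Submodule.mem_map_of_mem (f := fm H j (e n).hom) hmem
  have h2 := (Submodule.map_smul'' (powI s.toList n) _ (fm H j (e n).hom)).le h2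
  rw [fm_comp, Iso.inv_hom_id] at h2
  have h3 : fm H j (𝟙 F) x = x := Crv77.hmap_id A F j x
  rw [h3] at h2
  exact Submodule.smul_mono (powI_le_pow I s.toList (fun g hg => hl ▸ Ideal.subset_span hg) n) le_top h2

end Groth.Agent.KosPro27
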