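import Groth.Agent.KosPro27.Scheme
import Groth.Agent.ML41.Basic
import Mathlib.RingTheory.AdicCompletion.Basic

/-!
The completion of cohomology and the limit of cohomology.
-/


set_option autoImplicit false
set_option backward.isDefEq.respectTransparency.types false

universe u

open CategoryTheory CategoryTheory.Limits AlgebraicGeometry Opposite TopologicalSpace

noncomputable section

namespace Groth.Agent.KosPro27

attribute [local instance] linearModules

variable {A : Type u} [CommRing A] {X : Scheme.{u}} [X.Over (Spec (CommRingCat.of A))] (I : Ideal A)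
  (F : X.Modules)

theorem modPowπ_completion {n m : ℕ} (h : n ≤ m) :
    Formal.modPowπ I (m + 1) F ≫ (Formal.completion I F).map (homOfLE h).op =
      Formal.modPowπ I (n + 1) F := by
  induction m, h using Nat.le_induction with
  | base =>
    rw [show (homOfLE (le_refl n)).op = 𝟙 (op n) from rfl, (Formal.completion I F).map_id]
    exact Category.comp_id _
  | succ m hnm ih =>
    rw [show (homOfLE (hnm.trans (Nat.le_succ m))).op = (homOfLE (Nat.le_succ m)).op ≫ (homOfLE hnm).op from rfl,
      (Formal.completion I F).map_comp,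
      show (Formal.completion I F).map (homOfLE (Nat.le_succ m)).op = Formal.modPowTrans I (m + 1) F from
        Functor.ofOpSequence_map_homOfLE_succ _ m]
    exact (reassoc_of% (Formal.modPowπ_trans I (m + 1) F)) _ |>.trans ih

/-- The tower of cohomology groups. -/
def hTower (j : ℕ) : ℕᵒᵖ ⥤ AddCommGrpCat.{u} :=
  Formal.completion I F ⋙ hFun A X j ⋙ forget₂ (ModuleCat.{u} A) AddCommGrpCat.{u}

theorem tr_toHH (j : ℕ) {n m : ℕ} (h : n ≤ m) (x : Coh.HH X F j) :
    ML41.tr (hTower I F j) h (Formal.toHHmodPow I F j m x) = Formal.toHHmodPow I F j n x := by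
  show Crv77.hmap A ((Formal.completion I F).map (homOfLE h).op) j
      (Crv77.hmap A (Formal.modPowπ I (m + 1) F) j x) = Crv77.hmap A (Formal.modPowπ I (n + 1) F) j x
  refine (Crv77.hmap_comp A _ _ j x).trans ?_
  exact congrArg (fun f => Crv77.hmap A f j x) (modPowπ_completion I F h)

theorem tr_succ (j n : ℕ) (z : Formal.HHmodPow I F j (n + 1)) :
    ML41.tr (hTower I F j) (Nat.le_succ n) z = Formal.HHmodPowTrans I F j n z := by
  show Crv77.hmap A ((Formal.completion I F).map (homOfLE (Nat.le_succ n)).op) j z = _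
  exact congrArg (fun f => Crv77.hmap A f j z) (Functor.ofOpSequence_map_homOfLE_succ _ n)

theorem smul_le_ker (j n : ℕ) :
    I ^ (n + 1) • (⊤ : Submodule A (Coh.HH X F j)) ≤
      LinearMap.ker (Crv77.hmap A (Formal.modPowπ I (n + 1) F) j) := by
  haveI := linear_hFun A X j
  refine Submodule.smul_le.2 fun a ha y _ => ?_
  show Crv77.hmap A (Formal.modPowπ I (n + 1) F) j (a • y) = 0
  rw [map_smul]
  refine (map_smul_apply (hFun A X j) a (Formal.modPowπ I (n + 1) F) y).symm.trans ?_
  have e : a • Formal.modPowπ I (n + 1) F = 0 := Formal27.smulMod_modPowπ I (n + 1) F ha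
  rw [e]
  exact map_zero_apply (hFun A X j) y

/-- One component of the comparison. -/
def comparePiece (j n : ℕ) :
    Coh.HH X F j ⧸ (I ^ (n + 1) • ⊤ : Submodule A (Coh.HH X F j)) →ₗ[A] Formal.HHmodPow I F j n :=
  Submodule.liftQ _ (Crv77.hmap A (Formal.modPowπ I (n + 1) F) j) (smul_le_ker I F j n)

theorem comparePiece_mk (j n : ℕ) (h : Coh.HH X F j) :
    comparePiece I F j n (Submodule.Quotient.mk h) = Formal.toHHmodPow I F j n h := rfl

theorem eval_of_le {H : Type u} [AddCommGroup H] [Module A H] (x : AdicCompletion I H) {n m : ℕ} (h : n ≤ m)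
    {y : H} (hy : AdicCompletion.eval I H m x = Submodule.Quotient.mk y) :
    AdicCompletion.eval I H n x = Submodule.Quotient.mk y := by
  simp only [AdicCompletion.eval_apply] at hy ⊢
  rw [← x.property h, hy]
  rfl

/-- The comparison from the completion to the limit. -/
def compare (j : ℕ) : AdicCompletion I (Coh.HH X F j) →+ Formal.HHlim I F j where
  toFun x := ⟨fun n => comparePiece I F j n (AdicCompletion.eval I _ (n + 1) x), fun n => by
    obtain ⟨h, hh⟩ := Submodule.Quotient.mk_surjective _ (AdicCompletion.eval I _ (n + 1 + 1) x)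
    show Formal.HHmodPowTrans I F j n (comparePiece I F j (n + 1) (AdicCompletion.eval I _ (n + 1 + 1) x)) =
      comparePiece I F j n (AdicCompletion.eval I _ (n + 1) x)
    rw [← hh, eval_of_le I x (Nat.le_succ (n + 1)) hh.symm, comparePiece_mk, comparePiece_mk]
    exact (Formal.toHHlim I F j h).2 n⟩
  map_zero' := by
    refine Subtype.ext (funext fun n => ?_)
    show comparePiece I F j n (AdicCompletion.eval I _ (n + 1) 0) = 0
    rw [map_zero, map_zero]
  map_add' x y := by
    refine Subtype.ext (funext fun n => ?_)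
    show comparePiece I F j n (AdicCompletion.eval I _ (n + 1) (x + y)) =
      comparePiece I F j n (AdicCompletion.eval I _ (n + 1) x) +
        comparePiece I F j n (AdicCompletion.eval I _ (n + 1) y)
    rw [map_add, map_add]

theorem compare_apply (j : ℕ) (x : AdicCompletion I (Coh.HH X F j)) (n : ℕ) {h : Coh.HH X F j}
    (hh : AdicCompletion.eval I _ (n + 1) x = Submodule.Quotient.mk h) :
    (compare I F j x : ∀ n, Formal.HHmodPow I F j n) n = Formal.toHHmodPow I F j n h := by
  show comparePiece I F j n (AdicCompletion.eval I _ (n + 1) x) = _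
  rw [hh, comparePiece_mk]

variable [IsNoetherianRing A] [IsLocallyNoetherian X] [CompactSpace X] {F} (hF : Coh.IsCoh F)
  (hfin : ∀ j, Module.Finite A (Coh.HH X F j))

include hF hfin

theorem compare_injective (j : ℕ) : Function.Injective (compare I F j) := by
  rw [injective_iff_map_eq_zero]
  intro x hx
  refine AdicCompletion.ext fun n => ?_
  obtain ⟨N₀, hN₀⟩ := exists_kernel_le I hF hfin j n
  obtain ⟨h, hh⟩ := Submodule.Quotient.mk_surjective _
    (AdicCompletion.eval I _ (max N₀ n + 1) x)
  have h0 : Formal.toHHmodPow I F j (max N₀ n) h = 0 := by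
    rw [← compare_apply I F j x (max N₀ n) hh.symm, hx]
    rfl
  have hmem := hN₀ (max N₀ n) (le_max_left _ _) h h0
  have := eval_of_le I x (n := n) ((le_max_right _ _).trans (Nat.le_succ _)) hh.symm
  rw [AdicCompletion.eval_apply] at this
  rw [this, (Submodule.Quotient.mk_eq_zero _).2
    (Submodule.smul_mono_left (Ideal.pow_le_pow_right (Nat.le_succ n)) hmem)]
  rfl

theorem compare_surjective (j : ℕ) : Function.Surjective (compare I F j) := by
  intro y
  have hy : ML41.Compat (hTower I F j) y.1 :=
    ML41.compat_of_succ (F := hTower I F j) y.1 fun n => (tr_succ I F j n _).trans (y.2 n)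
  have hsurj : ∀ n, ∃ x, Formal.toHHmodPow I F j n x = y.1 n := fun n => by
    obtain ⟨N₀, hn, hN₀⟩ := exists_preimage I hF hfin j n
    obtain ⟨x, hx⟩ := hN₀ N₀ le_rfl ((Formal.completion I F).map (homOfLE hn).op)
      (modPowπ_completion I F hn) (y.1 N₀)
    exact ⟨x, hx.trans (hy hn)⟩
  choose x hx using hsurj
  choose N₀ hN₀ using exists_kernel_le I hF hfin j
  let K : ℕ → ℕ := fun n => max (N₀ n) n
  have key : ∀ n L, K n ≤ L → x L - x (K n) ∈ I ^ (n + 1) • (⊤ : Submodule A (Coh.HH X F j)) := by
    intro n L hL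
    refine hN₀ n (K n) (le_max_left _ _) _ ?_
    rw [map_sub, sub_eq_zero]
    show Formal.toHHmodPow I F j (K n) (x L) = Formal.toHHmodPow I F j (K n) (x (K n))
    rw [← tr_toHH I F j hL, hx, hx]
    exact hy hL
  let z : AdicCompletion I (Coh.HH X F j) := ⟨fun n => Submodule.Quotient.mk (x (K n)), fun {m n} hmn => by
    show Submodule.Quotient.mk (x (K n)) = Submodule.Quotient.mk (x (K m))
    rw [Submodule.Quotient.eq]
    have h1 := Submodule.smul_mono_left (Ideal.pow_le_pow_right (Nat.le_succ m)) (key m _ (le_max_left (K m) (K n)))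
    have h2 := Submodule.smul_mono_left (Ideal.pow_le_pow_right (hmn.trans (Nat.le_succ n)))
      (key n _ (le_max_right (K m) (K n)))
    have h3 := Submodule.sub_mem _ h1 h2
    rwa [sub_sub_sub_cancel_left] at h3⟩
  refine ⟨z, Subtype.ext (funext fun n => ?_)⟩
  rw [compare_apply I F j z n (h := x (K (n + 1))) rfl]
  have hn : n ≤ K (n + 1) := (Nat.le_succ n).trans (le_max_right _ _)
  rw [← tr_toHH I F j hn, hx]
  exact hy hn

theorem isML_hTower (j : ℕ) : ML41.IsML (hTower I F j) := fun i => by
  obtain ⟨N₀, hi, hN₀⟩ := exists_preimage I hF hfin j i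
  refine ⟨N₀, hi, fun k hk z => ?_⟩
  obtain ⟨x, hx⟩ := hN₀ N₀ le_rfl ((Formal.completion I F).map (homOfLE hi).op) (modPowπ_completion I F hi) z
  exact ⟨Formal.toHHmodPow I F j k x, (tr_toHH I F j _ x).trans hx⟩

theorem subsingleton_limOne (j : ℕ) :
    Subsingleton (Formal2.limOne (fun n => Formal.HHmodPow I F j n) (fun n => Formal.HHmodPowTrans I F j n)) := by
  refine QuotientAddGroup.subsingleton_iff.2 (eq_top_iff.2 fun d _ => ?_)
  obtain ⟨a, ha⟩ := ML41.towerDiff_surjective (isML_hTower I hF hfin j) d
  let a' : ∀ n, Formal.HHmodPow I F j n := a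
  refine ⟨a', funext fun n => ?_⟩
  show a' n - Formal.HHmodPowTrans I F j n (a' (n + 1)) = d n
  exact (congrArg (fun t => a' n - t) (tr_succ I F j n (a' (n + 1))).symm).trans (ha n)

end Groth.Agent.KosPro27
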